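/-
Eigenprojections of a representation of a finite abelian group.
-/
import Mathlib

set_option autoImplicit false

namespace CfsgLib.Known.D4Degree

variable {A : Type*} [AddCommGroup A] [Fintype A] {V : Type*} [AddCommGroup V] [Module ℂ V]
  (R : A → Module.End ℂ V)

/-- The projection onto the eigenspace of an additive character. -/
noncomputable def proj (χ : AddChar A ℂ) : Module.End ℂ V :=
  (Fintype.card A : ℂ)⁻¹ • (∑ a : A, χ (-a) • R a : Module.End ℂ V)

variable {R}

theorem mul_proj (hadd : ∀ a b, R a * R b = R (a + b)) (χ : AddChar A ℂ) (a : A) :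
    R a * proj R χ = χ a • proj R χ := by
  simp only [proj, mul_smul_comm, Finset.mul_sum]
  simp only [Finset.smul_sum]
  refine Fintype.sum_equiv (Equiv.addLeft a) _ _ fun b => ?_
  rw [hadd, Equiv.coe_addLeft, smul_comm (χ a) (_⁻¹ : ℂ), smul_smul (χ a) (χ _),
    ← AddChar.map_add_eq_mul, show a + -(a + b) = -b by abel]

theorem proj_mul (hadd : ∀ a b, R a * R b = R (a + b)) (χ : AddChar A ℂ) (a : A) :
    proj R χ * R a = χ a • proj R χ := by
  rw [← mul_proj hadd χ a]
  simp only [proj, mul_smul_comm, smul_mul_assoc, Finset.mul_sum, Finset.sum_mul, hadd,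
    add_comm a]

theorem proj_mul_proj [DecidableEq (AddChar A ℂ)] (hadd : ∀ a b, R a * R b = R (a + b))
    (χ χ' : AddChar A ℂ) : proj R χ * proj R χ' = if χ = χ' then proj R χ' else 0 := by
  conv_lhs => rw [proj]
  simp only [smul_mul_assoc, Finset.sum_mul, mul_proj hadd, smul_smul, ← Finset.sum_smul]
  have hne : (Fintype.card A : ℂ) ≠ 0 := by simp [Fintype.card_ne_zero]
  have e : ∀ a, χ (-a) * χ' a = (χ⁻¹ * χ') a := fun a => by
    rw [AddChar.mul_apply, AddChar.inv_apply]
  classical
  simp only [e, AddChar.sum_eq_ite]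
  by_cases h : χ = χ'
  · rw [if_pos (by subst h; rw [inv_mul_cancel, AddChar.one_eq_zero]), if_pos h,
      inv_mul_cancel₀ hne, one_smul]
  · rw [if_neg (fun h0 => h ?_), if_neg h, mul_zero, zero_smul]
    rw [← AddChar.one_eq_zero] at h0
    exact inv_mul_eq_one.1 h0

theorem proj_idem (hadd : ∀ a b, R a * R b = R (a + b)) (χ : AddChar A ℂ) :
    proj R χ * proj R χ = proj R χ := by
  classical
  rw [proj_mul_proj hadd, if_pos rfl]

theorem sum_proj (hR0 : R 0 = 1) : ∑ χ, proj R χ = 1 := by
  classical
  simp only [proj, ← Finset.smul_sum]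
  rw [Finset.sum_comm]
  simp only [← Finset.sum_smul, AddChar.sum_apply_eq_ite]
  rw [Finset.sum_eq_single 0 (fun a _ ha => by rw [if_neg (neg_ne_zero.2 ha), zero_smul]) (by simp),
    if_pos (neg_zero), hR0, smul_smul, inv_mul_cancel₀ (by simp [Fintype.card_ne_zero]), one_smul]

/-- Transport along an operator inducing an automorphism of the group. -/
theorem conj_proj {S T : Module.End ℂ V} (hTS : T * S = 1) {e : A → A} (he : Function.Bijective e)
    (hconj : ∀ a, S * R a * T = R (e a)) (χ χ' : AddChar A ℂ)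
    (hχ : ∀ a, χ (-a) = χ' (-e a)) : S * proj R χ = proj R χ' * S := by
  have h : S * proj R χ * T = proj R χ' := by
    simp only [proj, mul_smul_comm, smul_mul_assoc, Finset.mul_sum, Finset.sum_mul, hconj, hχ]
    congr 1
    exact Fintype.sum_bijective e he _ _ fun a => rfl
  rw [← h, mul_assoc, hTS, mul_one]

variable [FiniteDimensional ℂ V]

/-- The multiplicity of a character. -/
noncomputable def mult (R : A → Module.End ℂ V) (χ : AddChar A ℂ) : ℕ :=
  Module.finrank ℂ (LinearMap.range (proj R χ))

theorem trace_proj (hadd : ∀ a b, R a * R b = R (a + b)) (χ : AddChar A ℂ) :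
    LinearMap.trace ℂ V (proj R χ) = mult R χ :=
  (LinearMap.IsIdempotentElem.isProj_range _ (proj_idem hadd χ)).trace

theorem proj_eq_zero {χ : AddChar A ℂ} (h : mult R χ = 0) : proj R χ = 0 :=
  LinearMap.range_eq_bot.1 (Submodule.finrank_eq_zero.1 h)

theorem sum_mult (hadd : ∀ a b, R a * R b = R (a + b)) (hR0 : R 0 = 1) :
    ∑ χ, mult R χ = Module.finrank ℂ V := by
  have h : LinearMap.trace ℂ V (∑ χ, proj R χ) = LinearMap.trace ℂ V 1 := by rw [sum_proj hR0]
  rw [map_sum, LinearMap.trace_one] at h
  simp only [trace_proj hadd] at h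
  exact_mod_cast h

theorem mult_congr (hadd : ∀ a b, R a * R b = R (a + b)) {S T : Module.End ℂ V} (hST : S * T = 1)
    (hTS : T * S = 1) {χ χ' : AddChar A ℂ} (h : S * proj R χ = proj R χ' * S) :
    mult R χ = mult R χ' := by
  have e : proj R χ = T * (proj R χ' * S) := by rw [← h, ← mul_assoc, hTS, one_mul]
  have e2 := congrArg (LinearMap.trace ℂ V) e
  rw [LinearMap.trace_mul_comm, mul_assoc, hST, mul_one, trace_proj hadd, trace_proj hadd] at e2
  exact_mod_cast e2

/-- An idempotent of trace one commuting with an operator turns it into a scalar. -/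
theorem rank_one_smul {P S : Module.End ℂ V} (hP : P * P = P)
    (h1 : LinearMap.trace ℂ V P = 1) (hS : S * P = P * S) :
    S * P = LinearMap.trace ℂ V (S * P) • P := by
  have hproj := LinearMap.IsIdempotentElem.isProj_range P hP
  have hr : Module.finrank ℂ (LinearMap.range P) = 1 := by
    have := hproj.trace
    rw [h1] at this
    exact_mod_cast this.symm
  obtain ⟨v, hv0, hv⟩ := finrank_eq_one_iff'.1 hr
  obtain ⟨c, hc⟩ : ∃ c : ℂ, ∀ x, (S * P) x = c • P x := by
    have hmem : S (v : V) ∈ LinearMap.range P := ⟨S v, by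
      obtain ⟨y, hy⟩ := v.2
      rw [← hy]
      have := LinearMap.congr_fun hS y
      have h2 := LinearMap.congr_fun hP y
      simp only [Module.End.mul_apply] at this h2
      rw [this, ← Module.End.mul_apply, hP]⟩
    obtain ⟨c, hc⟩ := hv ⟨_, hmem⟩
    refine ⟨c, fun x => ?_⟩
    obtain ⟨d, hd⟩ := hv ⟨P x, LinearMap.mem_range_self P x⟩
    have hd' : d • (v : V) = P x := congrArg Subtype.val hd
    have hc' : c • (v : V) = S v := congrArg Subtype.val hc
    rw [Module.End.mul_apply, ← hd', map_smul, ← hc', smul_comm]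
  have he : S * P = c • P := LinearMap.ext fun x => by rw [hc, LinearMap.smul_apply]
  rw [he, map_smul, h1, smul_eq_mul, mul_one]

end CfsgLib.Known.D4Degree
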