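/-
Elements of the radical of the long root parabolic of ³D₄(q) as elements of the group.
-/
import Mathlib
import Cfsg.Agent.Lib.Recognition.Triality.Roots

set_option autoImplicit false
set_option maxRecDepth 20000
set_option maxHeartbeats 1000000

namespace CfsgLib.Known.D4Degree

open Cfsg.Lie CfsgLib.Chev CfsgLib.Chev.TwD4 CfsgLib.Chev.TwD4.Mult

universe v

/-- The word of the reflection in the root 22. -/
def word22 : List (Fin chevD4.rank) :=
  (O ⟨1, by decide⟩).word ++ ((O ⟨0, by decide⟩).word ++ (O ⟨1, by decide⟩).word)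

theorem weyl_tab :
    (let w := ((O ⟨1, by decide⟩).word).map Fin.val
     let f := fun r => w.foldr (fun i x => chevD4.reflectRoot i x) r
     f 14 = 22 ∧ f 23 = 23 ∧ f 19 ∈ [20, 21, 17] ∧ f 16 ∈ [20, 21, 17] ∧ f 15 ∈ [20, 21, 17]) ∧
    (let w := word22.map Fin.val
     let f := fun r => w.foldr (fun i x => chevD4.reflectRoot i x) r
     f 14 = 23 ∧ f 23 = 14 ∧ f 19 ∈ [19, 16, 15] ∧ f 16 ∈ [19, 16, 15] ∧ f 15 ∈ [19, 16, 15]) := by
  decide +kernel

theorem mix_tables : chevD4.commTerms 17 19 = [(23, 1, 1, 1)] ∧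
    chevD4.commTerms 20 16 = [(23, 1, 1, 1)] ∧ chevD4.commTerms 21 15 = [(23, 1, 1, 1)] ∧
    parD4.commB chevD4 17 16 = true ∧ parD4.commB chevD4 17 15 = true ∧
    parD4.commB chevD4 20 19 = true ∧ parD4.commB chevD4 20 15 = true ∧
    parD4.commB chevD4 21 19 = true ∧ parD4.commB chevD4 21 16 = true ∧
    parD4.commB chevD4 17 23 = true ∧ parD4.commB chevD4 20 23 = true ∧
    parD4.commB chevD4 21 23 = true := by
  refine ⟨?_, ?_, ?_, ?_, ?_, ?_, ?_, ?_, ?_, ?_, ?_, ?_⟩ <;> decide +kernel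

variable {K : Type v} [Field K] [Fintype K] {q : ℕ} (C : Ctx K q)
include C

/-- The subfield with `q` elements. -/
def Fix : AddSubgroup K where
  carrier := {t | C.f t = t}
  add_mem' := fun {a b} (ha : C.f a = a) (hb : C.f b = b) => show C.f (a + b) = a + b by
    rw [map_add, ha, hb]
  zero_mem' := map_zero _
  neg_mem' := fun {a} (ha : C.f a = a) => show C.f (-a) = -a by rw [map_neg, ha]

theorem mem_Fix {t : K} : t ∈ Fix C ↔ C.f t = t := Iff.rfl

theorem Fix.pow (s : Fix C) : (s : K) ^ q = s := by rw [← C.hf]; exact s.2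

theorem card_Fix : Nat.card (Fix C) = q := by
  refine Eq.trans (Nat.card_congr (Equiv.subtypeEquivRight fun t => ?_)) (card_field_fix C.q_gt C.card)
  rw [mem_Fix, C.hf]

theorem mem_single {r : ℕ} (hr : r ∈ LQ) (hc : coordB chevD4 [r] = true) (hρ : parD4.rho r = r)
    (he : parD4.eps r = 1) (s : Fix C) : xU chevD4 r (s : K) ∈ twistedD4 K q :=
  mem_G_of_fix C (xU_mem_RQ hr _) ((fix_single_f C hc hρ he _).2 (Fix.pow C s))

/-- The root element of the long simple root. -/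
noncomputable def ga (s : Fix C) : ↥(twistedD4 K q) :=
  ⟨xU chevD4 14 (s : K), mem_single C (by decide) sigma_tables.2.2.2.2.2.2.2.2.2.2.2.2.2.2.2.2.2.2.1
    sigma_tables.2.2.2.2.2.2.1 sigma_tables.2.2.2.2.2.2.2.2.2.2.2.2.2.2.2.1 s⟩

/-- The root element next to the highest one. -/
noncomputable def gd (s : Fix C) : ↥(twistedD4 K q) :=
  ⟨xU chevD4 22 (s : K), mem_single C (by decide) sigma_tables.2.2.2.2.2.2.2.2.2.2.2.2.2.2.2.2.2.2.2.1
    sigma_tables.2.2.2.2.2.2.2.1 sigma_tables.2.2.2.2.2.2.2.2.2.2.2.2.2.2.2.2.1 s⟩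

/-- The root element of the highest root. -/
noncomputable def gz (s : Fix C) : ↥(twistedD4 K q) :=
  ⟨xU chevD4 23 (s : K), mem_single C (by decide) sigma_tables.2.2.2.2.2.2.2.2.2.2.2.2.2.2.2.2.2.2.2.2
    sigma_tables.2.2.2.2.2.2.2.2.1 sigma_tables.2.2.2.2.2.2.2.2.2.2.2.2.2.2.2.2.2.1 s⟩

/-- The first triple. -/
noncomputable def gB (t : K) : ↥(twistedD4 K q) :=
  ⟨eAB C t, mem_G_of_fix C (eAB_RQ C t) (eAB_fix C t)⟩

/-- The second triple. -/
noncomputable def gC (t : K) : ↥(twistedD4 K q) :=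
  ⟨eA2B C t, mem_G_of_fix C (eA2B_RQ C t) (eA2B_fix C t)⟩

/-- The simple triple. -/
noncomputable def ge (t : K) : ↥(twistedD4 K q) := ⟨eB C t, eB_mem C t⟩

theorem ga_add (s s' : Fix C) : ga C (s + s') = ga C s * ga C s' :=
  Subtype.ext (DataD4.facts.xU_add (by decide) _ _).symm

theorem gd_add (s s' : Fix C) : gd C (s + s') = gd C s * gd C s' :=
  Subtype.ext (DataD4.facts.xU_add (by decide) _ _).symm

theorem gz_add (s s' : Fix C) : gz C (s + s') = gz C s * gz C s' :=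
  Subtype.ext (DataD4.facts.xU_add (by decide) _ _).symm

theorem gB_add (t t' : K) : gB C (t + t') = gB C t * gB C t' := Subtype.ext (eAB_add C t t')

theorem gC_add (t t' : K) : gC C (t + t') = gC C t * gC C t' := Subtype.ext (eA2B_add C t t')

theorem gz_zero : gz C 0 = 1 := Subtype.ext (DataD4.facts.xU_zero (by decide))

theorem gz_comm {g : ↥(twistedD4 K q)} (hg : (g : GL chevD4.Idx K) ∈ RQ K) (w : Fix C) :
    Commute (gz C w) g := Subtype.ext (c23 C hg _).eq

theorem ga_RQ (s : Fix C) : ((ga C s : ↥(twistedD4 K q)) : GL chevD4.Idx K) ∈ RQ K :=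
  xU_mem_RQ (by decide) _

theorem gd_RQ (s : Fix C) : ((gd C s : ↥(twistedD4 K q)) : GL chevD4.Idx K) ∈ RQ K :=
  xU_mem_RQ (by decide) _

theorem gz_RQ (s : Fix C) : ((gz C s : ↥(twistedD4 K q)) : GL chevD4.Idx K) ∈ RQ K :=
  xU_mem_RQ (by decide) _

theorem commute_triple {r : ℕ} (hr : r < chevD4.nroots) (t : K)
    {a b c : ℕ} (x y z : K)
    (h : ∀ s ∈ [a, b, c], s < chevD4.nroots ∧ parD4.commB chevD4 r s = true) :
    Commute (xU chevD4 r t) (xU chevD4 a x * (xU chevD4 b y * xU chevD4 c z)) := by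
  obtain ⟨a1, a2⟩ := h a (by simp)
  obtain ⟨b1, b2⟩ := h b (by simp)
  obtain ⟨c1, c2⟩ := h c (by simp)
  exact (C.sig.commute_xU hr a1 a2 _ _).mul_right
    ((C.sig.commute_xU hr b1 b2 _ _).mul_right (C.sig.commute_xU hr c1 c2 _ _))

theorem ga_gB (s : Fix C) (t : K) : Commute (ga C s) (gB C t) :=
  Subtype.ext (commute_triple C (by decide) _ _ _ _ fun r hr => by
    simp only [List.mem_cons, List.not_mem_nil, or_false] at hr
    rcases hr with rfl | rfl | rfl <;> exact ⟨by decide, pair_tables.2.2.2.2.2.2.1 _ (by decide)⟩).eq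

theorem ga_gC (s : Fix C) (t : K) : Commute (ga C s) (gC C t) :=
  Subtype.ext (commute_triple C (by decide) _ _ _ _ fun r hr => by
    simp only [List.mem_cons, List.not_mem_nil, or_false] at hr
    rcases hr with rfl | rfl | rfl <;> exact ⟨by decide, pair_tables.2.2.2.2.2.2.1 _ (by decide)⟩).eq

theorem gd_gB (s : Fix C) (t : K) : Commute (gd C s) (gB C t) :=
  Subtype.ext (commute_triple C (by decide) _ _ _ _ fun r hr => by
    simp only [List.mem_cons, List.not_mem_nil, or_false] at hr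
    rcases hr with rfl | rfl | rfl <;> exact ⟨by decide, pair_tables.2.2.2.2.2.2.2.1 _ (by decide)⟩).eq

theorem ge_gz (t : K) (w : Fix C) : Commute (gz C w) (ge C t) :=
  Subtype.ext (commute_triple C (by decide) _ _ _ _ fun r hr => by
    simp only [List.mem_cons, List.not_mem_nil, or_false] at hr
    rcases hr with rfl | rfl | rfl <;> exact ⟨by decide, pair_tables.2.2.2.2.2.2.2.2 _ (by decide)⟩).eq

/-- The trace to the subfield. -/
def tr (x : K) : K := x + C.f x + C.f (C.f x)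

theorem tr_mem (x : K) : tr C x ∈ Fix C := by
  rw [mem_Fix, tr, map_add, map_add, C.pow_three]; ring

/-- The trace as an element of the subfield. -/
def trF (x : K) : Fix C := ⟨tr C x, tr_mem C x⟩

theorem fix_mul {a : K} (ha : C.f a = a) (s : Fix C) : a * (s : K) ∈ Fix C := by
  rw [mem_Fix, map_mul, ha, (mem_Fix C).1 s.2]

theorem gd_conj_ga (y s : Fix C) :
    gd C y * ga C s * (gd C y)⁻¹ = ga C s * gz C ⟨-((y : K) * (s : K)), neg_mem (fix_mul C y.2 s)⟩ := by
  apply Subtype.ext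
  have h := comm_A_C22 C (s : K) (y : K)
  set a := xU chevD4 14 (s : K)
  set d := xU chevD4 22 (y : K)
  set z := xU chevD4 23 ((s : K) * y)
  have hz : Commute z a := c23 C (xU_mem_RQ (by decide) _) _
  have hzd : Commute z d := c23 C (xU_mem_RQ (by decide) _) _
  have e : a * d = z * d * a := by
    rw [← h]; group
  show d * a * d⁻¹ = a * xU chevD4 23 (-((y : K) * (s : K)))
  rw [mul_comm (y : K), ← DataD4.facts.xU_inv (by decide), eq_mul_inv_iff_mul_eq]
  have e' : a * d = d * a * z := by rw [e, mul_assoc, (hzd.mul_right hz).eq]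
  calc d * a * d⁻¹ * z = d * a * (d⁻¹ * z) := by group
    _ = d * a * (z * d⁻¹) := by rw [(hzd.symm.inv_left).eq]
    _ = a * d * d⁻¹ := by rw [e']; group
    _ = a := by group

theorem gC_conj_gB (w t : K) :
    gC C w * gB C t * (gC C w)⁻¹ = gB C t * gz C (-trF C (t * C.f (C.f w))) := by
  apply Subtype.ext
  obtain ⟨k1, k2, k3, g1, g2, g3, g4, g5, g6, z1, z2, z3⟩ := mix_tables
  show eA2B C w * eAB C t * (eA2B C w)⁻¹ = eAB C t * xU chevD4 23 (-(tr C (t * C.f (C.f w))))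
  have hF := DataD4.facts
  have cst : ∀ {r s : ℕ}, r < chevD4.nroots → s < chevD4.nroots →
      parD4.commB chevD4 r s = true → ∀ x y : K,
      xU chevD4 r x * xU chevD4 s y * (xU chevD4 r x)⁻¹ = xU chevD4 s y := fun hr hs h x y => by
    rw [(C.sig.commute_xU hr hs h x y).eq, mul_inv_cancel_right]
  set P := xU chevD4 19 t with hP
  set Q := xU chevD4 16 (-C.f t) with hQ
  set R := xU chevD4 15 (-C.f (C.f t)) with hR
  set X := xU chevD4 20 w with hX
  set Y := xU chevD4 21 (C.f w) with hY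
  set Z := xU chevD4 17 (-C.f (C.f w)) with hZ
  set u := -(t * C.f (C.f w)) with hu
  have zc : ∀ {r : ℕ}, r ∈ LQ → ∀ x a : K, Commute (xU chevD4 23 a) (xU chevD4 r x) :=
    fun hr x a => c23 C (xU_mem_RQ hr x) a
  have a1 : Z * (P * (Q * R)) * Z⁻¹ = P * xU chevD4 23 u * (Q * R) := by
    calc Z * (P * (Q * R)) * Z⁻¹ = (Z * P * Z⁻¹) * ((Z * Q * Z⁻¹) * (Z * R * Z⁻¹)) := by group
      _ = _ := by
        rw [hZ, hP, hQ, hR, cst (by decide) (by decide) g1, cst (by decide) (by decide) g2,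
          conj_single C (by decide) (by decide) (by decide) (by decide) k1 z1]
        congr 3; rw [hu]; push_cast; ring
  have a2 : Y * (P * xU chevD4 23 u * (Q * R)) * Y⁻¹ =
      P * xU chevD4 23 u * (Q * (R * xU chevD4 23 (C.f u * 0 + -(C.f w * C.f (C.f t))))) := by
    calc Y * (P * xU chevD4 23 u * (Q * R)) * Y⁻¹
        = (Y * P * Y⁻¹) * (Y * xU chevD4 23 u * Y⁻¹) * ((Y * Q * Y⁻¹) * (Y * R * Y⁻¹)) := by group
      _ = _ := by
        rw [hY, hP, hQ, hR, cst (by decide) (by decide) g5, cst (by decide) (by decide) z3,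
          cst (by decide) (by decide) g6,
          conj_single C (by decide) (by decide) (by decide) (by decide) k3 z3]
        congr 4; push_cast; ring
  set v := C.f u * 0 + -(C.f w * C.f (C.f t)) with hv
  have a3 : X * (P * xU chevD4 23 u * (Q * (R * xU chevD4 23 v))) * X⁻¹ =
      P * xU chevD4 23 u * (Q * xU chevD4 23 (-(w * C.f t)) * (R * xU chevD4 23 v)) := by
    calc X * (P * xU chevD4 23 u * (Q * (R * xU chevD4 23 v))) * X⁻¹
        = (X * P * X⁻¹) * (X * xU chevD4 23 u * X⁻¹) *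
          ((X * Q * X⁻¹) * ((X * R * X⁻¹) * (X * xU chevD4 23 v * X⁻¹))) := by group
      _ = _ := by
        rw [hX, hP, hQ, hR, cst (by decide) (by decide) g3, cst (by decide) (by decide) z2,
          cst (by decide) (by decide) g4, cst (by decide) (by decide) z2,
          conj_single C (by decide) (by decide) (by decide) (by decide) k2 z2]
        congr 4; push_cast; ring
  calc eA2B C w * eAB C t * (eA2B C w)⁻¹
      = X * (Y * (Z * (P * (Q * R)) * Z⁻¹) * Y⁻¹) * X⁻¹ := by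
        simp only [eA2B, eAB, ← hP, ← hQ, ← hR, ← hX, ← hY, ← hZ]; group
    _ = P * xU chevD4 23 u * (Q * xU chevD4 23 (-(w * C.f t)) * (R * xU chevD4 23 v)) := by
        rw [a1, a2, a3]
    _ = P * (Q * R) * (xU chevD4 23 u * xU chevD4 23 (-(w * C.f t)) * xU chevD4 23 v) := by
        have c1 : Commute (xU chevD4 23 u) Q := zc (by decide) _ _
        have c2 : Commute (xU chevD4 23 u) R := zc (by decide) _ _
        have c3 : Commute (xU chevD4 23 (-(w * C.f t))) R := zc (by decide) _ _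
        simp only [mul_assoc, c1.left_comm, c2.left_comm, c3.left_comm]
    _ = _ := by
        simp only [eAB, ← hP, ← hQ, ← hR, hF.xU_add (show 23 < chevD4.nroots by decide)]
        congr 2
        simp only [hv, hu, tr, map_mul, C.pow_three]
        ring

/-- The abelian subgroup as a map. -/
noncomputable def iota (p : Fix C × K × Fix C) : ↥(twistedD4 K q) :=
  ga C p.1 * gB C p.2.1 * gz C p.2.2

theorem iota_add (p p' : Fix C × K × Fix C) : iota C p * iota C p' = iota C (p + p') := by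
  simp only [iota, Prod.fst_add, Prod.snd_add, ga_add, gB_add, gz_add]
  have h1 : Commute (gz C p.2.2) (ga C p'.1 * gB C p'.2.1) :=
    (gz_comm C (ga_RQ C _) _).mul_right (gz_comm C (eAB_RQ C _) _)
  rw [h1.mul_mul_mul_comm, ((ga_gB C p'.1 p.2.1).symm).mul_mul_mul_comm]

theorem iota_zero : iota C 0 = 1 := by
  have := iota_add C 0 0
  rwa [add_zero, mul_eq_left] at this

theorem iota_crd (p : Fix C × K × Fix C) :
    Crd ((iota C p : ↥(twistedD4 K q)) : GL chevD4.Idx K) (crdV C (p.1 : K) p.2.1 0 0) := by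
  refine Crd.congr C ((((crd_xU C (r := 14) (by decide) (p.1 : K)).mul C
    ((crd_xU C (r := 19) (by decide) p.2.1).mul C ((crd_xU C (r := 16) (by decide) (-C.f p.2.1)).mul C
      (crd_xU C (r := 15) (by decide) (-C.f (C.f p.2.1)))))).mul C (crd_z C (p.2.2 : K)))) ?_
  intro r hr
  simp only [L8, List.mem_cons, List.not_mem_nil, or_false] at hr
  rcases hr with rfl | rfl | rfl | rfl | rfl | rfl | rfl | rfl <;> simp [crdV]

theorem iota_inj : Function.Injective (iota C) := by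
  have h0 : ∀ p, iota C p = 1 → p = 0 := by
    rintro ⟨s, t, w⟩ h
    have hu := Crd.unique C (iota_crd C (s, t, w)) (by rw [h]; exact crd_one C)
    have h14 : (s : K) = 0 := by simpa [crdV] using hu 14 (by decide)
    have h19 : t = 0 := by simpa [crdV] using hu 19 (by decide)
    obtain rfl : s = 0 := Subtype.ext h14
    subst h19
    have hg := congrArg Subtype.val h
    have e : xU chevD4 14 (0 : K) * eAB C 0 * xU chevD4 23 (w : K) = 1 := hg
    simp only [eAB, map_zero, neg_zero, DataD4.facts.xU_zero (show 14 < chevD4.nroots by decide),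
      DataD4.facts.xU_zero (show 19 < chevD4.nroots by decide),
      DataD4.facts.xU_zero (show 16 < chevD4.nroots by decide),
      DataD4.facts.xU_zero (show 15 < chevD4.nroots by decide), one_mul] at e
    obtain rfl : w = 0 := Subtype.ext (DataD4.facts.xU_eq_one (by decide) e)
    rfl
  intro p p' h
  refine sub_eq_zero.1 (h0 _ ?_)
  rw [sub_eq_add_neg, ← iota_add, h, iota_add, add_neg_cancel, iota_zero]

/-- A fixed element of the radical, by its coordinates. -/
theorem decomp {g : ↥(twistedD4 K q)} {v : ℕ → K} (h : Crd (g : GL chevD4.Idx K) v) :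
    ∃ (s : Fix C) (u w : K) (y z : Fix C), (s : K) = v 14 ∧ u = v 19 ∧ w = v 20 ∧ (y : K) = v 22 ∧
      g = ga C s * gB C u * gC C w * gd C y * gz C z := by
  obtain ⟨s, u, w, y, z, hs, hy, hz, e⟩ := fix_decomp C (h.mem C) (C.sys.le_fix g.2)
  have hu := Crd.unique C h (e ▸ crd_prod C s u w y z)
  refine ⟨⟨s, by rw [mem_Fix, C.hf, hs]⟩, u, w, ⟨y, by rw [mem_Fix, C.hf, hy]⟩,
    ⟨z, by rw [mem_Fix, C.hf, hz]⟩, ?_, ?_, ?_, ?_, Subtype.ext e⟩
  · simpa [crdV] using (hu 14 (by decide)).symm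
  · simpa [crdV] using (hu 19 (by decide)).symm
  · simpa [crdV] using (hu 20 (by decide)).symm
  · simpa [crdV] using (hu 22 (by decide)).symm

/-- The image of a triple under a permutation of the roots. -/
theorem crd_perm {n : GL chevD4.Idx K} {σ : Equiv.Perm (Fin chevD4.nroots)} (hn : PermAct n σ)
    (a b c : Fin chevD4.nroots) (ha : (σ a).val ∈ L8) (hb : (σ b).val ∈ L8)
    (hc : (σ c).val ∈ L8) (x y z : K) :
    ∃ v : ℕ → K, Crd (n * (xU chevD4 a.val x * (xU chevD4 b.val y * xU chevD4 c.val z)) * n⁻¹) v ∧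
      ∀ r, r ∉ [(σ a).val, (σ b).val, (σ c).val] → v r = 0 := by
  obtain ⟨ca, -, ea, -⟩ := hn a
  obtain ⟨cb, -, eb, -⟩ := hn b
  obtain ⟨cc, -, ec, -⟩ := hn c
  refine ⟨Pi.single (σ a).val (ca * x) + (Pi.single (σ b).val (cb * y) + Pi.single (σ c).val (cc * z)),
    ?_, ?_⟩
  · rw [show n * (xU chevD4 a.val x * (xU chevD4 b.val y * xU chevD4 c.val z)) * n⁻¹ =
      (n * xU chevD4 a.val x * n⁻¹) * ((n * xU chevD4 b.val y * n⁻¹) *
        (n * xU chevD4 c.val z * n⁻¹)) by group, ea, eb, ec]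
    exact (crd_xU C ha _).mul C ((crd_xU C hb _).mul C (crd_xU C hc _))
  · intro r hr
    simp only [List.mem_cons, List.not_mem_nil, or_false, not_or] at hr
    simp [hr.1, hr.2.1, hr.2.2]

theorem conj_single_fix {n : ↥(twistedD4 K q)} {σ : Equiv.Perm (Fin chevD4.nroots)}
    (hn : PermAct (n : GL chevD4.Idx K) σ) {i j : Fin chevD4.nroots} (hij : σ i = j)
    (hc : coordB chevD4 [j.val] = true) (hρ : parD4.rho j.val = j.val) (he : parD4.eps j.val = 1)
    (gi gj : Fix C → ↥(twistedD4 K q))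
    (hi : ∀ s, ((gi s : ↥(twistedD4 K q)) : GL chevD4.Idx K) = xU chevD4 i.val (s : K))
    (hj : ∀ s, ((gj s : ↥(twistedD4 K q)) : GL chevD4.Idx K) = xU chevD4 j.val (s : K)) :
    ∃ φ : Fix C → Fix C, Function.Bijective φ ∧ ∀ s, n * gi s * n⁻¹ = gj (φ s) := by
  obtain ⟨c, hc0, e, -⟩ := hn i
  rw [hij] at e
  have hmem : ∀ s : Fix C, c * (s : K) ∈ Fix C := fun s => by
    have h := C.sys.le_fix (n * gi s * n⁻¹).2
    rw [Subgroup.coe_mul, Subgroup.coe_mul, Subgroup.coe_inv, hi, e, fix_single_f C hc hρ he] at h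
    rwa [mem_Fix, C.hf]
  refine ⟨fun s => ⟨c * s, hmem s⟩, Finite.injective_iff_bijective.1 fun s t h =>
    Subtype.ext (mul_left_cancel₀ hc0 (congrArg Subtype.val h)), fun s => Subtype.ext ?_⟩
  rw [Subgroup.coe_mul, Subgroup.coe_mul, Subgroup.coe_inv, hi, hj, e]

/-- The Weyl element of the simple triple. -/
theorem exists_n1 : ∃ n : ↥(twistedD4 K q),
    (∀ s, ∃ y, n * ga C s * n⁻¹ = gd C y) ∧
    (∀ t, ∃ w z, n * gB C t * n⁻¹ = gC C w * gz C z) ∧
    (∀ s, ∃ z, n * gz C s * n⁻¹ = gz C z) := by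
  obtain ⟨⟨t14, t23, t19, t16, t15⟩, -⟩ := weyl_tab
  obtain ⟨-, -, -, -, -, -, r14, r22, r23, -, -, -, -, -, -, e14, e22, e23, h14, h22, h23⟩ :=
    sigma_tables
  obtain ⟨m, hm, -, hp⟩ := C.sys.exists_nO ⟨1, by decide⟩
  set σ := (O ⟨1, by decide⟩).wO with hσ
  have hv : ∀ r : Fin chevD4.nroots, (σ r).val = ((O ⟨1, by decide⟩).word.map Fin.val).foldr
      (fun i x => chevD4.reflectRoot i x) r.val := fun r => by
    rw [hσ, Orb.wO, DataD4.facts.sW_val_foldr]
  refine ⟨⟨m, hm⟩, ?_, fun t => ?_, ?_⟩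
  · obtain ⟨φ, -, h⟩ := conj_single_fix C (n := ⟨m, hm⟩) hp (i := ⟨14, by decide⟩)
      (j := ⟨22, by decide⟩) (Fin.ext ((hv _).trans t14)) h22 r22 e22 (ga C) (gd C)
      (fun s => rfl) (fun s => rfl)
    exact fun s => ⟨_, h s⟩
  · have hL : ∀ x, x ∈ [20, 21, 17] → x ∈ L8 ∧ x ≠ 14 ∧ x ≠ 19 ∧ x ≠ 22 := by decide
    replace t19 : (σ ⟨19, by decide⟩).val ∈ [20, 21, 17] := by rw [hv]; exact t19
    replace t16 : (σ ⟨16, by decide⟩).val ∈ [20, 21, 17] := by rw [hv]; exact t16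
    replace t15 : (σ ⟨15, by decide⟩).val ∈ [20, 21, 17] := by rw [hv]; exact t15
    obtain ⟨v, hv', h0⟩ := crd_perm C hp ⟨19, by decide⟩ ⟨16, by decide⟩ ⟨15, by decide⟩
      (hL _ t19).1 (hL _ t16).1 (hL _ t15).1 t (-C.f t) (-C.f (C.f t))
    obtain ⟨s, u, w, y, z, es, eu, -, ey, e⟩ := decomp C (g := ⟨m, hm⟩ * gB C t * ⟨m, hm⟩⁻¹) hv'
    have z0 : ∀ r, r = 14 ∨ r = 19 ∨ r = 22 → v r = 0 := fun r hr => h0 r (by
      simp only [List.mem_cons, List.not_mem_nil, or_false, not_or]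
      refine ⟨fun h => ?_, fun h => ?_, fun h => ?_⟩
      · have := hL _ (h ▸ t19); omega
      · have := hL _ (h ▸ t16); omega
      · have := hL _ (h ▸ t15); omega)
    rw [z0 14 (by simp)] at es
    rw [z0 19 (by simp)] at eu
    rw [z0 22 (by simp)] at ey
    refine ⟨w, z, e.trans ?_⟩
    have ha : ga C s = 1 := Subtype.ext (by
      show xU chevD4 14 (s : K) = 1; rw [es]; exact DataD4.facts.xU_zero (by decide))
    have hd : gd C y = 1 := Subtype.ext (by
      show xU chevD4 22 (y : K) = 1; rw [ey]; exact DataD4.facts.xU_zero (by decide))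
    have hb : gB C u = 1 := by
      have := gB_add C 0 0
      rw [add_zero, left_eq_mul] at this
      rw [eu, this]
    rw [ha, hd, hb, one_mul, one_mul, mul_one]
  · obtain ⟨φ, -, h⟩ := conj_single_fix C (n := ⟨m, hm⟩) hp (i := ⟨23, by decide⟩)
      (j := ⟨23, by decide⟩) (Fin.ext ((hv _).trans t23)) h23 r23 e23 (gz C) (gz C)
      (fun s => rfl) (fun s => rfl)
    exact fun s => ⟨_, h s⟩

/-- The Weyl element of the root next to the highest one. -/
theorem exists_n22 : ∃ n : ↥(twistedD4 K q),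
    (∀ p, ∃ p', n * iota C p * n⁻¹ = iota C p') ∧
    ∃ φ : Fix C → Fix C, Function.Bijective φ ∧ ∀ s, n * gz C s * n⁻¹ = ga C (φ s) := by
  obtain ⟨-, ⟨t14, t23, t19, t16, t15⟩⟩ := weyl_tab
  obtain ⟨-, -, -, -, -, -, r14, r22, r23, -, -, -, -, -, -, e14, e22, e23, h14, h22, h23⟩ :=
    sigma_tables
  obtain ⟨m1, hm1, -, hp1⟩ := C.sys.exists_nO ⟨1, by decide⟩
  obtain ⟨m0, hm0, -, hp0⟩ := C.sys.exists_nO ⟨0, by decide⟩
  have hp := DataD4.facts.permAct_mul hp1 (DataD4.facts.permAct_mul hp0 hp1)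
  set n : ↥(twistedD4 K q) := ⟨m1 * (m0 * m1), mul_mem hm1 (mul_mem hm0 hm1)⟩ with hn
  set σ := (O ⟨1, by decide⟩).wO * ((O ⟨0, by decide⟩).wO * (O ⟨1, by decide⟩).wO) with hσ
  have hv : ∀ r : Fin chevD4.nroots, (σ r).val = (word22.map Fin.val).foldr
      (fun i x => chevD4.reflectRoot i x) r.val := fun r => by
    rw [hσ, Orb.wO, Orb.wO, ← sW_append, ← sW_append, DataD4.facts.sW_val_foldr, word22]
  obtain ⟨φa, -, ha⟩ := conj_single_fix C (n := n) hp (i := ⟨14, by decide⟩)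
    (j := ⟨23, by decide⟩) (Fin.ext ((hv _).trans t14)) h23 r23 e23 (ga C) (gz C)
    (fun s => rfl) (fun s => rfl)
  obtain ⟨φ, hφ, hz⟩ := conj_single_fix C (n := n) hp (i := ⟨23, by decide⟩)
    (j := ⟨14, by decide⟩) (Fin.ext ((hv _).trans t23)) h14 r14 e14 (gz C) (ga C)
    (fun s => rfl) (fun s => rfl)
  refine ⟨n, fun p => ?_, φ, hφ, hz⟩
  have hL : ∀ x, x ∈ [19, 16, 15] → x ∈ L8 ∧ x ≠ 14 ∧ x ≠ 20 ∧ x ≠ 22 := by decide
  replace t19 : (σ ⟨19, by decide⟩).val ∈ [19, 16, 15] := by rw [hv]; exact t19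
  replace t16 : (σ ⟨16, by decide⟩).val ∈ [19, 16, 15] := by rw [hv]; exact t16
  replace t15 : (σ ⟨15, by decide⟩).val ∈ [19, 16, 15] := by rw [hv]; exact t15
  have hB : ∃ u z, n * gB C p.2.1 * n⁻¹ = iota C (0, u, z) := by
    obtain ⟨v, hv', h0⟩ := crd_perm C hp ⟨19, by decide⟩ ⟨16, by decide⟩ ⟨15, by decide⟩
      (hL _ t19).1 (hL _ t16).1 (hL _ t15).1 p.2.1 (-C.f p.2.1) (-C.f (C.f p.2.1))
    obtain ⟨s, u, w, y, z, es, -, ew, ey, e⟩ := decomp C (g := n * gB C p.2.1 * n⁻¹) hv'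
    have z0 : ∀ r, r = 14 ∨ r = 20 ∨ r = 22 → v r = 0 := fun r hr => h0 r (by
      simp only [List.mem_cons, List.not_mem_nil, or_false, not_or]
      refine ⟨fun h => ?_, fun h => ?_, fun h => ?_⟩
      · have := hL _ (h ▸ t19); omega
      · have := hL _ (h ▸ t16); omega
      · have := hL _ (h ▸ t15); omega)
    rw [z0 14 (by simp)] at es
    rw [z0 20 (by simp)] at ew
    rw [z0 22 (by simp)] at ey
    refine ⟨u, z, e.trans ?_⟩
    obtain rfl : s = 0 := Subtype.ext es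
    obtain rfl : y = 0 := Subtype.ext ey
    have hd : gd C 0 = 1 := Subtype.ext (DataD4.facts.xU_zero (by decide))
    have hc : gC C (0 : K) = 1 := by
      have := gC_add C 0 0
      rwa [add_zero, left_eq_mul] at this
    rw [ew, hc, hd, mul_one, mul_one, iota]
  obtain ⟨u, z, hu⟩ := hB
  refine ⟨(0, 0, φa p.1) + (0, u, z) + (φ p.2.2, 0, 0), ?_⟩
  have h0a : ∀ s : Fix C, iota C (s, 0, 0) = ga C s := fun s => by
    have hb : gB C (0 : K) = 1 := by
      have := gB_add C 0 0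
      rwa [add_zero, left_eq_mul] at this
    rw [iota, hb, gz_zero, mul_one, mul_one]
  have h0z : ∀ s : Fix C, iota C (0, 0, s) = gz C s := fun s => by
    have := iota_zero C
    simp only [iota, Prod.fst_zero, Prod.snd_zero, gz_zero, mul_one] at this
    rw [iota, this, one_mul]
  rw [← iota_add, ← iota_add, h0a, h0z, ← ha, ← hu, ← hz, iota]
  group

/-- The simple triple moves the long simple root element. -/
theorem ge_conj_ga (t : K) (s : Fix C) : ∃ (u w : K) (y z : Fix C),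
    (y : K) = -(t * C.f t * C.f (C.f t) * (s : K)) ∧
    ge C t * ga C s * (ge C t)⁻¹ = ga C s * gB C u * gC C w * gd C y * gz C z := by
  obtain ⟨z, hz⟩ := conj_A C t (Fix.pow C s)
  have hcrd : Crd ((ge C t * ga C s * (ge C t)⁻¹ : ↥(twistedD4 K q)) : GL chevD4.Idx K)
      (crdV C (s : K) (-(t * (s : K))) (-(t * C.f (C.f t) * (s : K)))
        (-(t * C.f t * C.f (C.f t) * (s : K)))) := by
    show Crd (eB C t * xU chevD4 14 (s : K) * (eB C t)⁻¹) _
    rw [hz]
    exact crd_prod C _ _ _ _ _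
  obtain ⟨s', u, w, y, z', es, -, -, ey, e⟩ := decomp C hcrd
  obtain rfl : s' = s := Subtype.ext (by simpa [crdV] using es)
  exact ⟨u, w, y, z', by simpa [crdV] using ey, e⟩

/-- The torus element. -/
noncomputable def tor (a b : Kˣ) (hb : b ^ (q - 1) = 1) : ↥(twistedD4 K q) :=
  ⟨hT chevD4 (C.vec a b), C.vec_mem a hb⟩

theorem f_unit {b : Kˣ} (hb : b ^ (q - 1) = 1) : C.f (b : K) = b :=
  congrArg Units.val (C.fu_fix hb)

theorem tor_conj (a b : Kˣ) (hb : b ^ (q - 1) = 1) :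
    (∀ s : Fix C, ∃ h, tor C a b hb * ga C s * (tor C a b hb)⁻¹ =
      ga C ⟨(b : K) * b / ((a : K) * C.f a * C.f (C.f a)) * s, h⟩) ∧
    (∀ s : Fix C, ∃ h, tor C a b hb * gd C s * (tor C a b hb)⁻¹ =
      gd C ⟨(a : K) * C.f a * C.f (C.f a) / (b : K) * s, h⟩) ∧
    (∀ s : Fix C, tor C a b hb * gz C s * (tor C a b hb)⁻¹ =
      gz C ⟨(b : K) * s, fix_mul C (f_unit C hb) s⟩) ∧
    (∀ u, tor C a b hb * gB C u * (tor C a b hb)⁻¹ =
      gB C ((a : K) * b / (C.f a * C.f (C.f a)) * u)) ∧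
    (∀ w, tor C a b hb * gC C w * (tor C a b hb)⁻¹ =
      gC C ((a : K) * C.f (C.f a) / C.f a * w)) := by
  obtain ⟨v14, v22, v23, vB, vC, -⟩ := torus_vals C a b
  have hN : C.f ((a : K) * C.f a * C.f (C.f a)) = (a : K) * C.f a * C.f (C.f a) := by
    simp only [map_mul, C.pow_three]; ring
  refine ⟨fun s => ⟨fix_mul C ?_ s, Subtype.ext (v14 s)⟩, fun s => ⟨fix_mul C ?_ s, Subtype.ext (v22 s)⟩,
    fun s => Subtype.ext (v23 s), fun u => Subtype.ext (vB u (f_unit C hb)),
    fun w => Subtype.ext (vC w (f_unit C hb))⟩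
  · rw [map_div₀, hN, map_mul, f_unit C hb]
  · rw [map_div₀, hN, f_unit C hb]

end CfsgLib.Known.D4Degree
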