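/-
Characters of the subfield and of the field, and the divisibility excluding the extreme degree.
-/
import Mathlib
import Cfsg.Agent.Lib.Known.D4Degree.Elems

set_option autoImplicit false
set_option maxHeartbeats 1000000

namespace CfsgLib.Known.D4Degree

open Cfsg.Lie CfsgLib.Chev CfsgLib.Chev.TwD4

universe v

/-- A character of a product of three groups. -/
noncomputable def mk3 {A B D : Type*} [AddCommGroup A] [AddCommGroup B] [AddCommGroup D]
    (a : AddChar A ℂ) (b : AddChar B ℂ) (c : AddChar D ℂ) : AddChar (A × B × D) ℂ where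
  toFun p := a p.1 * b p.2.1 * c p.2.2
  map_zero_eq_one' := by simp
  map_add_eq_mul' p p' := by
    simp only [Prod.fst_add, Prod.snd_add, AddChar.map_add_eq_mul]; ring

theorem mk3_apply {A B D : Type*} [AddCommGroup A] [AddCommGroup B] [AddCommGroup D]
    (a : AddChar A ℂ) (b : AddChar B ℂ) (c : AddChar D ℂ) (p : A × B × D) :
    mk3 a b c p = a p.1 * b p.2.1 * c p.2.2 := rfl

theorem mk3_bijective {A B D : Type*} [AddCommGroup A] [AddCommGroup B] [AddCommGroup D]
    [Fintype A] [Fintype B] [Fintype D] :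
    Function.Bijective fun p : AddChar A ℂ × AddChar B ℂ × AddChar D ℂ =>
      mk3 p.1 p.2.1 p.2.2 := by
  rw [Fintype.bijective_iff_injective_and_card]
  refine ⟨?_, by simp [Fintype.card_prod]⟩
  rintro ⟨a, b, c⟩ ⟨a', b', c'⟩ h
  refine Prod.ext (DFunLike.ext _ _ fun x => ?_) (Prod.ext (DFunLike.ext _ _ fun x => ?_)
    (DFunLike.ext _ _ fun x => ?_))
  · simpa [mk3_apply] using DFunLike.congr_fun h (x, (0 : B), (0 : D))
  · simpa [mk3_apply] using DFunLike.congr_fun h ((0 : A), x, (0 : D))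
  · simpa [mk3_apply] using DFunLike.congr_fun h ((0 : A), (0 : B), x)

variable {K : Type v} [Field K] [Fintype K] {q : ℕ} (C : Ctx K q)
include C

noncomputable instance fintypeFix : Fintype (Fix C) := Fintype.ofFinite _

theorem card_Fix' : Fintype.card (Fix C) = q := by
  rw [← Nat.card_eq_fintype_card, card_Fix]

theorem fix_smul {a : K} (ha : a ∈ Fix C) (s : Fix C) : a * (s : K) ∈ Fix C := fix_mul C ha s

theorem fix_div {a s : K} (ha : a ∈ Fix C) (hs : s ∈ Fix C) : a / s ∈ Fix C := by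
  rw [mem_Fix] at ha hs ⊢
  rw [map_div₀, ha, hs]

theorem exists_tr_ne : ∃ x : K, tr C x ≠ 0 := by
  classical
  by_contra! h
  have hq := C.q_gt
  have hqq : q < q * q := Nat.lt_mul_self_iff.2 hq
  let P : Polynomial K := .X ^ (q * q) + .X ^ q + .X
  have hd : P.natDegree ≤ q * q := by
    refine (Polynomial.natDegree_add_le _ _).trans (max_le ?_ (Polynomial.natDegree_X_le.trans (by omega)))
    refine (Polynomial.natDegree_add_le _ _).trans (max_le ?_ ?_) <;>
      simp [Polynomial.natDegree_X_pow]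
    omega
  have hne : P ≠ 0 := fun h0 => by
    have := congrArg (fun p : Polynomial K => p.coeff (q * q)) h0
    simp [P, Polynomial.coeff_X_pow, Polynomial.coeff_X, show q * q ≠ q by omega,
      show 1 ≠ q * q by omega] at this
  have hroot : ∀ x : K, P.eval x = 0 := fun x => by
    have e : P.eval x = tr C x := by
      simp [P, tr, C.hf, ← pow_mul]
      ring
    rw [e, h]
  have hs : (Finset.univ : Finset K) ⊆ P.roots.toFinset := fun x _ => by
    rw [Multiset.mem_toFinset, Polynomial.mem_roots hne]; exact hroot x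
  have := (Finset.card_le_card hs).trans ((Multiset.toFinset_card_le _).trans
    ((Polynomial.card_roots' P).trans hd))
  rw [Finset.card_univ, C.card] at this
  have h3 : q * q * 1 < q * q * q := Nat.mul_lt_mul_of_pos_left hq (by positivity)
  rw [pow_succ, sq] at this
  omega

theorem trF_surjective : Function.Surjective (trF C) := by
  intro s
  obtain ⟨x, hx⟩ := exists_tr_ne C
  have hc : (s : K) / tr C x ∈ Fix C := fix_div C s.2 (tr_mem C x)
  refine ⟨(s : K) / tr C x * x, Subtype.ext ?_⟩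
  show tr C ((s : K) / tr C x * x) = s
  rw [tr, map_mul, map_mul, (mem_Fix C).1 hc, (mem_Fix C).1 hc,
    show (s : K) / tr C x * x + (s : K) / tr C x * C.f x + (s : K) / tr C x * C.f (C.f x) =
      (s : K) / tr C x * tr C x by rw [tr]; ring, div_mul_cancel₀ _ hx]

/-- Every character of the subfield is a multiple of a given non-trivial one. -/
theorem exists_mul_char {γ : AddChar (Fix C) ℂ} (hγ : γ ≠ 0) (α : AddChar (Fix C) ℂ) :
    ∃ y : Fix C, ∀ s : Fix C, α s = γ ⟨(y : K) * s, fix_mul C y.2 s⟩ := by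
  let F : Fix C → AddChar (Fix C) ℂ := fun y =>
    { toFun := fun s => γ ⟨(y : K) * s, fix_mul C y.2 s⟩
      map_zero_eq_one' := by
        rw [← AddChar.map_zero_eq_one γ]; congr 1; exact Subtype.ext (by simp)
      map_add_eq_mul' := fun a b => by
        rw [← AddChar.map_add_eq_mul]; congr 1; exact Subtype.ext (mul_add _ _ _) }
  have hinj : Function.Injective F := by
    intro y y' h
    by_contra hne
    refine hγ (DFunLike.ext _ _ fun x => ?_)
    have hd : (y : K) - y' ≠ 0 := sub_ne_zero.2 fun e => hne (Subtype.ext e)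
    set s : Fix C := ⟨(x : K) / ((y : K) - y'), fix_div C x.2 (sub_mem y.2 y'.2)⟩
    have hs : γ ⟨(y : K) * s, fix_mul C y.2 s⟩ = γ ⟨(y' : K) * s, fix_mul C y'.2 s⟩ :=
      DFunLike.congr_fun h s
    have e : (⟨(y : K) * s, fix_mul C y.2 s⟩ : Fix C) = ⟨(y' : K) * s, fix_mul C y'.2 s⟩ + x :=
      Subtype.ext (by simp only [AddSubgroup.coe_add, s]; field_simp; ring)
    rw [e, AddChar.map_add_eq_mul] at hs
    rw [AddChar.zero_apply]
    exact mul_eq_left₀ (AddChar.val_isUnit _ _).ne_zero |>.1 hs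
  have hb := (Fintype.bijective_iff_injective_and_card F).2 ⟨hinj, AddChar.card_eq.symm⟩
  obtain ⟨y, hy⟩ := hb.2 α
  exact ⟨y, fun s => by rw [← hy]; rfl⟩

/-- Every character of the field comes from a given non-trivial one of the subfield. -/
theorem exists_tr_char {γ : AddChar (Fix C) ℂ} (hγ : γ ≠ 0) (β : AddChar K ℂ) :
    ∃ u : K, ∀ t : K, β t = γ (trF C (t * C.f (C.f u))) := by
  have htr : ∀ a b : K, trF C (a + b) = trF C a + trF C b := fun a b => Subtype.ext (by
    simp only [trF, tr, AddSubgroup.coe_add, map_add]; ring)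
  let F : K → AddChar K ℂ := fun u =>
    { toFun := fun t => γ (trF C (t * C.f (C.f u)))
      map_zero_eq_one' := by
        rw [← AddChar.map_zero_eq_one γ]; congr 1; exact Subtype.ext (by simp [trF, tr])
      map_add_eq_mul' := fun a b => by rw [← AddChar.map_add_eq_mul, add_mul, htr] }
  have hinj : Function.Injective F := by
    intro u u' h
    by_contra hne
    refine hγ (DFunLike.ext _ _ fun x => ?_)
    obtain ⟨w, rfl⟩ := trF_surjective C x
    have hd : C.f (C.f u) - C.f (C.f u') ≠ 0 :=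
      sub_ne_zero.2 fun e => hne (C.f.injective (C.f.injective e))
    set t := w / (C.f (C.f u) - C.f (C.f u'))
    have hs : γ (trF C (t * C.f (C.f u))) = γ (trF C (t * C.f (C.f u'))) := DFunLike.congr_fun h t
    have e : t * C.f (C.f u) = t * C.f (C.f u') + w := by simp only [t]; field_simp; ring
    rw [e, htr, AddChar.map_add_eq_mul] at hs
    rw [AddChar.zero_apply]
    exact mul_eq_left₀ (AddChar.val_isUnit _ _).ne_zero |>.1 hs
  have hb := (Fintype.bijective_iff_injective_and_card F).2 ⟨hinj, AddChar.card_eq.symm⟩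
  obtain ⟨u, hu⟩ := hb.2 β
  exact ⟨u, fun t => by rw [← hu]; rfl⟩

/-- A torus parameter acting freely on both eigenvalue maps. -/
theorem exists_torus : ∃ (a b : Kˣ) (_ : b ^ (q - 1) = 1),
    (b : K) * b = (a : K) * C.f a * C.f (C.f a) ∧ (a : K) * C.f (C.f a) / C.f a ≠ 1 ∧
    (3 ≤ q → (b : K) ≠ 1) := by
  classical
  obtain ⟨g, hg⟩ := IsCyclic.exists_ofOrder_eq_natCard (α := Kˣ)
  rw [Nat.card_units, Nat.card_eq_fintype_card, C.card] at hg
  have hq := C.q_gt
  set b := g * C.fu g * C.fu (C.fu g) with hb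
  have hfb : C.fu b = b := by
    rw [hb, map_mul, map_mul, C.fu_three]
    simp [mul_comm, mul_left_comm, mul_assoc]
  have hb1 : b ^ (q - 1) = 1 := by
    have e : b ^ q = b := Units.ext (by rw [Units.val_pow_eq_pow_val, ← C.fu_val, hfb])
    have e2 : b * b ^ (q - 1) = b * 1 := by
      rw [← pow_succ', Nat.sub_add_cancel hq.le, e, mul_one]
    exact mul_left_cancel e2
  have hfu : ∀ x : Kˣ, C.fu x = x ^ q := fun x => Units.ext (by
    rw [C.fu_val, Units.val_pow_eq_pow_val])
  have hqq : q * q * 1 < q * q * q := Nat.mul_lt_mul_of_pos_left hq (by positivity)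
  have h3 : q ^ 3 = q * q * q := by ring
  refine ⟨g * g, b, hb1, ?_, fun h => ?_, fun h h1 => ?_⟩
  · simp only [hb, Units.val_mul, map_mul]
    show (g : K) * C.f g * C.f (C.f g) * ((g : K) * C.f g * C.f (C.f g)) = _
    ring
  · rw [div_eq_one_iff_eq (by simp)] at h
    have h' : (g * g) * C.fu (C.fu (g * g)) = C.fu (g * g) := Units.ext h
    simp only [hfu, ← pow_two, ← pow_mul, ← pow_add] at h'
    have e := pow_inj_mod.1 (show g ^ (2 + q * q * 2) = g ^ (q * 2) by
      rw [show q * q * 2 = 2 * (q * q) by ring, show q * 2 = 2 * q by ring]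
      simpa [mul_assoc] using h')
    rw [hg, h3] at e
    rcases eq_or_lt_of_le (show 2 ≤ q by omega) with rfl | h2
    · norm_num at e
    · have hlt : 2 + q * q * 2 < q * q * q - 1 := by
        have : q * q * 3 ≤ q * q * q := Nat.mul_le_mul_left _ h2
        have : 9 ≤ q * q := Nat.mul_le_mul h2 h2
        omega
      have : q * 2 < q * q * q - 1 := by
        have : q ≤ q * q := Nat.le_mul_self q
        omega
      rw [Nat.mod_eq_of_lt hlt, Nat.mod_eq_of_lt this] at e
      have : q ≤ q * q := Nat.le_mul_self q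
      omega
  · have h' : b = 1 := Units.ext h1
    simp only [hb, hfu, ← pow_mul] at h'
    have e : g ^ (1 + q + q * q) = 1 := by
      rw [pow_add, pow_add, pow_one]; exact h'
    rw [← orderOf_dvd_iff_pow_eq_one, hg, h3] at e
    have := Nat.le_of_dvd (by omega) e
    have : q * q * 3 ≤ q * q * q := Nat.mul_le_mul_left _ h
    have : q ≤ q * q := Nat.le_mul_self q
    omega

omit C in
/-- The extreme degree does not divide the order. -/
theorem not_dvd_order (hq : 2 ≤ q) : ¬ (q ^ 5 - q ^ 3 + q - 1) ∣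
    q ^ 12 * (q ^ 2 - 1) * (q ^ 6 - 1) * (q ^ 8 + q ^ 4 + 1) := by
  intro h
  obtain ⟨j, rfl⟩ : ∃ j, q = j + 1 := ⟨q - 1, by omega⟩
  have hfac : (j + 1) ^ 5 - (j + 1) ^ 3 + (j + 1) - 1 = j * ((j + 1) ^ 4 + (j + 1) ^ 3 + 1) := by
    have : (j + 1) ^ 5 = (j + 1) ^ 3 + (j * ((j + 1) ^ 4 + (j + 1) ^ 3)) := by ring
    rw [this, Nat.mul_add j _ 1]; omega
  have h2 : (j + 1) ^ 2 - 1 = j * (j + 2) := Nat.sub_eq_of_eq_add (by ring)
  rw [hfac, h2, show (j + 1) ^ 12 * (j * (j + 2)) * ((j + 1) ^ 6 - 1) *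
      ((j + 1) ^ 8 + (j + 1) ^ 4 + 1) = j * ((j + 1) ^ 12 * ((j + 2) * ((j + 1) ^ 6 - 1) *
        ((j + 1) ^ 8 + (j + 1) ^ 4 + 1))) by ring] at h
  have h' := (Nat.mul_dvd_mul_iff_left (by omega)).1 h
  have hcop : Nat.Coprime ((j + 1) ^ 4 + (j + 1) ^ 3 + 1) ((j + 1) ^ 12) := by
    refine Nat.Coprime.pow_right _ ?_
    rw [show (j + 1) ^ 4 + (j + 1) ^ 3 + 1 = 1 + ((j + 1) ^ 3 + (j + 1) ^ 2) * (j + 1) by ring,
      Nat.coprime_add_mul_right_left]
    exact Nat.coprime_one_left _
  have h'' := Int.natCast_dvd_natCast.2 (hcop.dvd_of_dvd_mul_left h')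
  push_cast [Nat.one_le_pow 6 (j + 1) (Nat.succ_pos j)] at h''
  set x : ℤ := (j : ℤ) + 1 with hx
  have e : ((j : ℤ) + 2) * (x ^ 6 - 1) * (x ^ 8 + x ^ 4 + 1) =
      (x ^ 4 + x ^ 3 + 1) * (x ^ 11 + x ^ 6 - 2 * x ^ 5 + x ^ 4 + x - 3) +
        (3 * x ^ 3 - 2 * x + 2) := by
    rw [show (j : ℤ) + 2 = x + 1 by omega]; ring
  rw [e, dvd_add_right (dvd_mul_right _ _)] at h''
  have hx2 : 2 ≤ x := by omega
  have h4 : 4 * x ≤ x ^ 3 := by nlinarith [mul_le_mul hx2 hx2 (by norm_num) (by omega)]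
  have hpos : 0 < 3 * x ^ 3 - 2 * x + 2 := by linarith
  have := Int.le_of_dvd hpos h''
  nlinarith

end CfsgLib.Known.D4Degree
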