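/-
The lower bound for the degree of a non-trivial representation of ³D₄(q).
-/
import Mathlib
import Cfsg.Agent.Lib.Known.D4Degree.Counts
import Cfsg.Agent.Lib.Known.D4Degree.AbelChar
import Cfsg.Agent.Lib.Char.Integral

set_option autoImplicit false
set_option maxRecDepth 20000
set_option maxHeartbeats 1000000

namespace CfsgLib.Known.D4Degree

open Cfsg.Lie CfsgLib.Chev CfsgLib.Chev.TwD4 CfsgLib.Chev.TwD4.Mult

universe v

variable {K : Type v} [Field K] [Fintype K] {q : ℕ} (C : Ctx K q) {V : Type*} [AddCommGroup V]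
  [Module ℂ V] [FiniteDimensional ℂ V] (ρ : Representation ℂ (↥(twistedD4 K q)) V)
include C

/-- The operators of the abelian subgroup. -/
noncomputable def op (p : Fix C × K × Fix C) : Module.End ℂ V := ρ (iota C p)

omit [FiniteDimensional ℂ V] in
theorem op_add (p p' : Fix C × K × Fix C) : op C ρ p * op C ρ p' = op C ρ (p + p') := by
  rw [op, op, op, ← map_mul, iota_add]

omit [FiniteDimensional ℂ V] in
theorem inv_mul (g : ↥(twistedD4 K q)) : ρ g⁻¹ * ρ g = 1 := by
  rw [← map_mul, inv_mul_cancel, map_one]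

omit [FiniteDimensional ℂ V] in
theorem mul_inv' (g : ↥(twistedD4 K q)) : ρ g * ρ g⁻¹ = 1 := by
  rw [← map_mul, mul_inv_cancel, map_one]

/-- The multiplicity of a triple of characters. -/
noncomputable def r3 (α : AddChar (Fix C) ℂ) (β : AddChar K ℂ) (γ : AddChar (Fix C) ℂ) : ℕ :=
  mult (op C ρ) (mk3 α β γ)

omit [FiniteDimensional ℂ V] in
theorem move (g : ↥(twistedD4 K q)) (e : Fix C × K × Fix C → Fix C × K × Fix C)
    (he : ∀ p, g * iota C p * g⁻¹ = iota C (e p)) (χ χ' : AddChar (Fix C × K × Fix C) ℂ)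
    (h : ∀ p, χ p = χ' (e p)) :
    ρ g * proj (op C ρ) χ = proj (op C ρ) χ' * ρ g := by
  classical
  have hadd : ∀ p p', e (p + p') = e p + e p' := fun p p' => iota_inj C (by
    rw [← he, ← iota_add, ← iota_add, ← he, ← he]; group)
  have hneg : ∀ p, e (-p) = -e p := fun p => (AddMonoidHom.mk' e hadd).map_neg p
  have hinj : Function.Injective e := fun p p' hp => iota_inj C (by
    have := (he p).trans ((congrArg (iota C) hp).trans (he p').symm)
    exact mul_left_cancel (mul_right_cancel this))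
  refine conj_proj (T := ρ g⁻¹) (inv_mul C ρ g) (Finite.injective_iff_bijective.1 hinj)
    (fun p => ?_) χ χ' fun p => by rw [h, hneg]
  rw [op, op, ← map_mul, ← map_mul, he]

theorem mult_move (g : ↥(twistedD4 K q)) (e : Fix C × K × Fix C → Fix C × K × Fix C)
    (he : ∀ p, g * iota C p * g⁻¹ = iota C (e p)) (χ χ' : AddChar (Fix C × K × Fix C) ℂ)
    (h : ∀ p, χ p = χ' (e p)) : mult (op C ρ) χ = mult (op C ρ) χ' :=
  mult_congr (op_add C ρ) (mul_inv' C ρ g) (inv_mul C ρ g) (move C ρ g e he χ χ' h)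

/-! ### Conjugation of the abelian subgroup -/

theorem gd_iota (y : Fix C) (p : Fix C × K × Fix C) :
    gd C y * iota C p * (gd C y)⁻¹ =
      iota C (p.1, p.2.1, p.2.2 + -⟨(y : K) * p.1, fix_mul C y.2 p.1⟩) := by
  have hB : gd C y * gB C p.2.1 * (gd C y)⁻¹ = gB C p.2.1 := by
    rw [(gd_gB C y _).eq, mul_inv_cancel_right]
  have hZ : gd C y * gz C p.2.2 * (gd C y)⁻¹ = gz C p.2.2 := by
    rw [← (gz_comm C (gd_RQ C y) _).eq, mul_inv_cancel_right]
  have hA := gd_conj_ga C y p.1
  simp only [iota, gz_add]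
  rw [show gd C y * (ga C p.1 * gB C p.2.1 * gz C p.2.2) * (gd C y)⁻¹ =
    (gd C y * ga C p.1 * (gd C y)⁻¹) * (gd C y * gB C p.2.1 * (gd C y)⁻¹) *
      (gd C y * gz C p.2.2 * (gd C y)⁻¹) by group, hA, hB, hZ]
  set w : Fix C := ⟨-((y : K) * p.1), neg_mem (fix_mul C y.2 p.1)⟩
  have hw : -(⟨(y : K) * p.1, fix_mul C y.2 p.1⟩ : Fix C) = w := Subtype.ext rfl
  rw [hw]
  have c1 : Commute (gz C w) (gB C p.2.1) := gz_comm C (eAB_RQ C _) _
  have c2 : Commute (gz C w) (gz C p.2.2) := gz_comm C (gz_RQ C _) _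
  simp only [mul_assoc, c1.left_comm, c2.eq]

theorem gC_iota (u : K) (p : Fix C × K × Fix C) :
    gC C u * iota C p * (gC C u)⁻¹ =
      iota C (p.1, p.2.1, p.2.2 + -trF C (p.2.1 * C.f (C.f u))) := by
  have hA : gC C u * ga C p.1 * (gC C u)⁻¹ = ga C p.1 := by
    rw [← (ga_gC C _ u).eq, mul_inv_cancel_right]
  have hZ : gC C u * gz C p.2.2 * (gC C u)⁻¹ = gz C p.2.2 := by
    rw [← (gz_comm C (eA2B_RQ C u : ((gC C u : ↥(twistedD4 K q)) : GL chevD4.Idx K) ∈ RQ K) _).eq,
      mul_inv_cancel_right]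
  have hB := gC_conj_gB C u p.2.1
  simp only [iota, gz_add]
  rw [show gC C u * (ga C p.1 * gB C p.2.1 * gz C p.2.2) * (gC C u)⁻¹ =
    (gC C u * ga C p.1 * (gC C u)⁻¹) * (gC C u * gB C p.2.1 * (gC C u)⁻¹) *
      (gC C u * gz C p.2.2 * (gC C u)⁻¹) by group, hA, hB, hZ]
  have c2 : Commute (gz C (-trF C (p.2.1 * C.f (C.f u)))) (gz C p.2.2) :=
    gz_comm C (gz_RQ C _) _
  simp only [mul_assoc, c2.eq]

theorem tor_iota (a b : Kˣ) (hb : b ^ (q - 1) = 1) (p : Fix C × K × Fix C) :
    ∃ (h : (b : K) * b / ((a : K) * C.f a * C.f (C.f a)) * (p.1 : K) ∈ Fix C),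
    tor C a b hb * iota C p * (tor C a b hb)⁻¹ =
      iota C (⟨_, h⟩, (a : K) * b / (C.f a * C.f (C.f a)) * p.2.1,
        ⟨(b : K) * p.2.2, fix_mul C (f_unit C hb) p.2.2⟩) := by
  obtain ⟨h14, -, h23, hB, -⟩ := tor_conj C a b hb
  obtain ⟨h, ha⟩ := h14 p.1
  refine ⟨h, ?_⟩
  simp only [iota]
  rw [show tor C a b hb * (ga C p.1 * gB C p.2.1 * gz C p.2.2) * (tor C a b hb)⁻¹ =
    (tor C a b hb * ga C p.1 * (tor C a b hb)⁻¹) * (tor C a b hb * gB C p.2.1 * (tor C a b hb)⁻¹) *
      (tor C a b hb * gz C p.2.2 * (tor C a b hb)⁻¹) by group, ha, hB, h23]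

theorem gB_zero : gB C (0 : K) = 1 := by
  have := gB_add C 0 0
  rwa [add_zero, left_eq_mul] at this

theorem gC_zero : gC C (0 : K) = 1 := by
  have := gC_add C 0 0
  rwa [add_zero, left_eq_mul] at this

theorem ga_zero : ga C 0 = 1 := Subtype.ext (DataD4.facts.xU_zero (by decide))

theorem gd_zero : gd C 0 = 1 := Subtype.ext (DataD4.facts.xU_zero (by decide))

theorem iota_a (s : Fix C) : iota C (s, 0, 0) = ga C s := by
  rw [iota, gB_zero, gz_zero, mul_one, mul_one]

theorem iota_B (t : K) : iota C (0, t, 0) = gB C t := by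
  rw [iota, ga_zero, gz_zero, one_mul, mul_one]

theorem iota_z (w : Fix C) : iota C (0, 0, w) = gz C w := by
  rw [iota, ga_zero, gB_zero, one_mul, one_mul]

/-! ### The multiplicities -/

/-- All characters which are non-trivial on the centre or on the long simple root group occur equally often. -/
theorem exists_common (hinj : Function.Injective ρ) :
    ∃ r, 1 ≤ r ∧ ∀ (α : AddChar (Fix C) ℂ) (β : AddChar K ℂ) (γ : AddChar (Fix C) ℂ),
      (α ≠ 0 ∨ γ ≠ 0) → r3 C ρ α β γ = r := by
  classical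
  have hq := C.q_gt
  obtain ⟨γ₁, hγ₁⟩ := Fintype.exists_ne_of_one_lt_card (α := AddChar (Fix C) ℂ)
    (by rw [AddChar.card_eq, card_Fix']; omega) 0
  have hγz : ∀ (α : AddChar (Fix C) ℂ) (β : AddChar K ℂ) (γ : AddChar (Fix C) ℂ), γ ≠ 0 →
      r3 C ρ α β γ = r3 C ρ 0 0 γ₁ := by
    intro α β γ hγ
    obtain ⟨y, hy⟩ := exists_mul_char C hγ α
    obtain ⟨u, hu⟩ := exists_tr_char C hγ β
    have e1 : r3 C ρ 0 0 γ = r3 C ρ α 0 γ := by
      refine mult_move C ρ (gd C y) _ (gd_iota C y) _ _ fun p => ?_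
      simp only [mk3_apply, AddChar.zero_apply, one_mul, mul_one, hy]
      rw [← AddChar.map_add_eq_mul]
      congr 1
      abel
    have e2 : r3 C ρ α 0 γ = r3 C ρ α β γ := by
      refine mult_move C ρ (gC C u) _ (gC_iota C u) _ _ fun p => ?_
      simp only [mk3_apply, AddChar.zero_apply, mul_one, hu]
      rw [mul_assoc, ← AddChar.map_add_eq_mul]
      congr 2
      abel
    obtain ⟨b, hb⟩ := exists_mul_char C hγ₁ γ
    have hb0 : (b : K) ≠ 0 := fun h0 => hγ (DFunLike.ext _ _ fun s => by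
      rw [hb s, AddChar.zero_apply, ← AddChar.map_zero_eq_one γ₁]
      congr 1
      exact Subtype.ext (by simp [h0]))
    have hb1 : (Units.mk0 (b : K) hb0) ^ (q - 1) = 1 := Units.ext (by
      rw [Units.val_pow_eq_pow_val, Units.val_mk0, Units.val_one]
      refine mul_left_cancel₀ hb0 ?_
      rw [← pow_succ', Nat.sub_add_cancel hq.le, mul_one, Fix.pow C b])
    choose hmem he using tor_iota C 1 (Units.mk0 (b : K) hb0) hb1
    have e3 : r3 C ρ 0 0 γ = r3 C ρ 0 0 γ₁ := by
      refine mult_move C ρ _ _ he _ _ fun p => ?_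
      simp only [mk3_apply, AddChar.zero_apply, one_mul, hb, Units.val_mk0]
    rw [← e2, ← e1, e3]
  refine ⟨r3 C ρ 0 0 γ₁, ?_, fun α β γ h => ?_⟩
  · by_contra hlt
    have h0 : ∀ α β γ, γ ≠ 0 → proj (op C ρ) (mk3 α β γ) = 0 := fun α β γ hγ =>
      proj_eq_zero (by have := hγz α β γ hγ; simp only [r3] at this hlt; omega)
    obtain ⟨w, hw⟩ := Fintype.exists_ne_of_one_lt_card (α := Fix C) (by rw [card_Fix']; omega) 0
    have hR0 : op C ρ 0 = 1 := by rw [op, iota_zero, map_one]
    have h1 : op C ρ (0, 0, w) = 1 := by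
      calc op C ρ (0, 0, w) = op C ρ (0, 0, w) * ∑ χ, proj (op C ρ) χ := by
            rw [sum_proj hR0, mul_one]
        _ = ∑ χ, proj (op C ρ) χ := by
          rw [Finset.mul_sum]
          refine Finset.sum_congr rfl fun χ _ => ?_
          obtain ⟨⟨α, β, γ⟩, rfl⟩ := mk3_bijective.2 χ
          by_cases hγ : γ = 0
          · rw [mul_proj (op_add C ρ)]; simp [mk3_apply, hγ]
          · rw [h0 α β γ hγ, mul_zero]
        _ = 1 := sum_proj hR0
    rw [op, ← map_one ρ, ← iota_zero C] at h1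
    have := iota_inj C (hinj h1)
    exact hw (congrArg (fun p : Fix C × K × Fix C => p.2.2) this)
  · by_cases hγ : γ = 0
    swap
    · exact hγz α β γ hγ
    have hα := h.resolve_right (not_not_intro hγ)
    obtain ⟨n, hn, φ, hφ, hz⟩ := exists_n22 C
    choose e he using hn
    have hadd : ∀ p p', e (p + p') = e p + e p' := fun p p' => iota_inj C (by
      rw [← he, ← iota_add, ← iota_add, ← he, ← he]; group)
    set χ : AddChar (Fix C × K × Fix C) ℂ :=
      (mk3 α β γ).compAddMonoidHom (AddMonoidHom.mk' e hadd) with hχ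
    have e1 : mult (op C ρ) χ = r3 C ρ α β γ := mult_move C ρ n e he _ _ fun p => rfl
    obtain ⟨⟨α', β', γ'⟩, hχ'⟩ := mk3_bijective.2 χ
    have hγ' : γ' ≠ 0 := fun h0 => hα (DFunLike.ext _ _ fun s => by
      obtain ⟨w, rfl⟩ := hφ.2 s
      have ee : e (0, 0, w) = (φ w, 0, 0) := iota_inj C (by rw [← he, iota_z, hz, iota_a])
      have := DFunLike.congr_fun hχ' (0, 0, w)
      simpa [hχ, mk3_apply, ee, h0] using this.symm)
    rw [← e1, ← hχ']
    exact hγz α' β' γ' hγ'

/-! ### The fixed points of the centre -/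

theorem range_le {P P' : Module.End ℂ V} (h : P * P' = P') :
    LinearMap.range P' ≤ LinearMap.range P := by
  rintro _ ⟨v, rfl⟩
  exact ⟨P' v, by rw [← Module.End.mul_apply, h]⟩

/-- The scalar by which a root group acts on a line. -/
theorem scalar_char {H : Type*} [AddCommGroup H] (f : H → ↥(twistedD4 K q))
    (hf : ∀ a b, f (a + b) = f a * f b) {P : Module.End ℂ V} (hP : P * P = P)
    (h1 : LinearMap.trace ℂ V P = 1) (hc : ∀ a, ρ (f a) * P = P * ρ (f a)) :
    ∃ lam : AddChar H ℂ, ∀ a, ρ (f a) * P = lam a • P := by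
  let l : H → ℂ := fun a => LinearMap.trace ℂ V (ρ (f a) * P)
  have hl : ∀ a, ρ (f a) * P = l a • P := fun a => rank_one_smul hP h1 (hc a)
  have hl0 : l 0 = 1 := by
    have : f 0 = 1 := by have := hf 0 0; rwa [add_zero, left_eq_mul] at this
    simp [l, this, h1]
  refine ⟨⟨l, hl0, fun a b => ?_⟩, hl⟩
  show LinearMap.trace ℂ V (ρ (f (a + b)) * P) = l a * l b
  rw [hf, map_mul ρ, mul_assoc, hl b, mul_smul_comm, hl a, smul_smul, map_smul, h1, smul_eq_mul,
    mul_one, mul_comm]

/-- The sum of the multiplicities trivial outside the middle is at least `q - 1`. -/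
theorem low_bound (h1 : ∀ (α : AddChar (Fix C) ℂ) (β : AddChar K ℂ) (γ : AddChar (Fix C) ℂ),
      (α ≠ 0 ∨ γ ≠ 0) → r3 C ρ α β γ = 1) :
    q - 1 ≤ ∑ β : AddChar K ℂ, r3 C ρ 0 β 0 := by
  classical
  have hq := C.q_gt
  set P : AddChar (Fix C) ℂ → Module.End ℂ V := fun α => proj (op C ρ) (mk3 α 0 0) with hP
  have hPP : ∀ α, P α * P α = P α := fun α => proj_idem (op_add C ρ) _
  have htr : ∀ α, α ≠ 0 → LinearMap.trace ℂ V (P α) = 1 := fun α hα => by
    have := h1 α 0 0 (Or.inl hα)
    simp only [r3] at this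
    rw [hP, trace_proj (op_add C ρ), this, Nat.cast_one]
  have hPeig : ∀ (α : AddChar (Fix C) ℂ) p, op C ρ p * P α = α p.1 • P α := fun α p => by
    rw [hP, mul_proj (op_add C ρ)]; simp [mk3_apply]
  have hfixd : ∀ α (y : Fix C), ρ (gd C y) * P α = P α * ρ (gd C y) := fun α y => by
    refine move C ρ (gd C y) _ (gd_iota C y) _ _ fun p => ?_
    simp [mk3_apply]
  have hfixC : ∀ α (u : K), ρ (gC C u) * P α = P α * ρ (gC C u) := fun α u => by
    refine move C ρ (gC C u) _ (gC_iota C u) _ _ fun p => ?_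
    simp [mk3_apply]
  choose lamC hC using fun α : {α : AddChar (Fix C) ℂ // α ≠ 0} =>
    scalar_char C ρ (gC C) (gC_add C) (hPP α.1) (htr α.1 α.2) (hfixC α.1)
  choose lamd hd using fun α : {α : AddChar (Fix C) ℂ // α ≠ 0} =>
    scalar_char C ρ (gd C) (gd_add C) (hPP α.1) (htr α.1 α.2) (hfixd α.1)
  obtain ⟨a, b, hb, hab, hc1, hb3⟩ := exists_torus C
  have hNne : (a : K) * C.f a * C.f (C.f a) ≠ 0 := by simp
  choose hmem he using tor_iota C a b hb
  have hfixt : ∀ α, ρ (tor C a b hb) * P α = P α * ρ (tor C a b hb) := fun α => by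
    refine move C ρ _ _ he _ _ fun p => ?_
    simp only [mk3_apply, AddChar.zero_apply, mul_one]
    congr 1
    exact Subtype.ext (by simp only [hab, div_self hNne, one_mul])
  obtain ⟨-, hd', -, -, hC'⟩ := tor_conj C a b hb
  have hconj : ∀ α : {α : AddChar (Fix C) ℂ // α ≠ 0}, ∀ g : ↥(twistedD4 K q),
      LinearMap.trace ℂ V (ρ (tor C a b hb * g * (tor C a b hb)⁻¹) * P α.1) =
        LinearMap.trace ℂ V (ρ g * P α.1) := fun α g => by
    have hi : ρ (tor C a b hb)⁻¹ * P α.1 = P α.1 * ρ (tor C a b hb)⁻¹ := by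
      calc ρ (tor C a b hb)⁻¹ * P α.1
          = ρ (tor C a b hb)⁻¹ * (P α.1 * ρ (tor C a b hb)) * ρ (tor C a b hb)⁻¹ := by
            rw [mul_assoc, mul_assoc, mul_inv' C ρ, mul_one]
        _ = _ := by rw [← hfixt, ← mul_assoc, inv_mul C ρ, one_mul]
    rw [map_mul ρ, map_mul ρ, mul_assoc, hi, ← mul_assoc, LinearMap.trace_mul_comm, ← mul_assoc,
      ← mul_assoc (ρ (tor C a b hb)⁻¹), inv_mul C ρ, one_mul]
  have hC1 : ∀ α, lamC α = 0 := fun α => DFunLike.ext _ _ fun w => by
    set c := (a : K) * C.f (C.f a) / C.f a with hcdef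
    have key : ∀ x, lamC α (c * x) = lamC α x := fun x => by
      have := hconj α (gC C x)
      rwa [hC', hC, hC, map_smul, map_smul, htr α.1 α.2, smul_eq_mul, smul_eq_mul, mul_one,
        mul_one] at this
    have hne : c - 1 ≠ 0 := sub_ne_zero.2 hc1
    have := key (w / (c - 1))
    rw [show c * (w / (c - 1)) = w + w / (c - 1) by field_simp; ring, AddChar.map_add_eq_mul] at this
    rw [AddChar.zero_apply]
    exact mul_eq_right₀ (AddChar.val_isUnit _ _).ne_zero |>.1 this
  have hd1 : 3 ≤ q → ∀ α, lamd α = 0 := fun h3 α => DFunLike.ext _ _ fun w => by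
    have hbf := f_unit C hb
    have key : ∀ x : Fix C, lamd α ⟨(b : K) * x, fix_mul C hbf x⟩ = lamd α x := fun x => by
      obtain ⟨h, e⟩ := hd' x
      have := hconj α (gd C x)
      rw [e, hd, hd, map_smul, map_smul, htr α.1 α.2, smul_eq_mul, smul_eq_mul, mul_one,
        mul_one] at this
      rw [← this]
      congr 1
      refine Subtype.ext ?_
      show (b : K) * x = (a : K) * C.f a * C.f (C.f a) / (b : K) * x
      rw [← hab, mul_div_assoc, div_self b.ne_zero, mul_one]
    have hne : (b : K) - 1 ≠ 0 := sub_ne_zero.2 (hb3 h3)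
    have hm : (w : K) / ((b : K) - 1) ∈ Fix C :=
      fix_div C w.2 ((mem_Fix C).2 (by rw [map_sub, map_one, hbf]))
    have := key ⟨_, hm⟩
    rw [show (⟨(b : K) * (⟨_, hm⟩ : Fix C), fix_mul C hbf ⟨_, hm⟩⟩ : Fix C) = w + ⟨_, hm⟩ from
      Subtype.ext (by simp only [AddSubgroup.coe_add]; field_simp; ring),
      AddChar.map_add_eq_mul] at this
    rw [AddChar.zero_apply]
    exact mul_eq_right₀ (AddChar.val_isUnit _ _).ne_zero |>.1 this
  -- the case in which the whole radical but one root group fixes the lines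
  by_cases hall : ∀ α, lamd α = 0
  · obtain ⟨n, hna, hnB, hnz⟩ := exists_n1 C
    set P' : {α : AddChar (Fix C) ℂ // α ≠ 0} → Module.End ℂ V :=
      fun α => ρ n⁻¹ * P α.1 * ρ n with hP'
    have hfix : ∀ α p, op C ρ p * P' α = P' α := fun α p => by
      obtain ⟨y, hy⟩ := hna p.1
      obtain ⟨w, z, hwz⟩ := hnB p.2.1
      obtain ⟨z', hz'⟩ := hnz p.2.2
      have e : n * iota C p * n⁻¹ = gd C y * (gC C w * gz C z) * gz C z' := by
        rw [← hy, ← hwz, ← hz', iota]; group
      have ez : ∀ x : Fix C, ρ (gz C x) * P α.1 = P α.1 := fun x => by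
        rw [← iota_z]; simpa [op] using hPeig α.1 (0, 0, x)
      have eP : ρ (n * iota C p * n⁻¹) * P α.1 = P α.1 := by
        rw [e]
        simp only [map_mul, mul_assoc, ez, hC, hd, hC1, hall, AddChar.zero_apply, one_smul]
      calc op C ρ p * P' α = ρ n⁻¹ * (ρ (n * iota C p * n⁻¹) * P α.1) * ρ n := by
            rw [hP', op, map_mul, map_mul]
            simp only [mul_assoc]
            rw [← mul_assoc (ρ n⁻¹) (ρ n), inv_mul C ρ, one_mul]
        _ = P' α := by rw [eP]
    have hP1 : ∀ α, P 0 * P' α = P' α := fun α => by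
      show proj (op C ρ) (mk3 0 0 0) * P' α = P' α
      simp only [proj, smul_mul_assoc, Finset.sum_mul, hfix]
      simp only [mk3_apply, AddChar.zero_apply, one_mul, mul_one, one_smul, Finset.sum_const,
        Finset.card_univ]
      rw [← Nat.cast_smul_eq_nsmul ℂ, smul_smul, inv_mul_cancel₀ (by simp [Fintype.card_ne_zero]),
        one_smul]
    have horth : ∀ α β, P' α * P' β = if α = β then P' β else 0 := fun α β => by
      have hPab : P α.1 * P β.1 = if α = β then P β.1 else 0 := by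
        by_cases h : α = β
        · subst h; rw [if_pos rfl, hPP]
        · rw [if_neg h]
          simp only [hP]
          rw [proj_mul_proj (op_add C ρ), if_neg fun e => h (Subtype.ext ?_)]
          exact congrArg Prod.fst (mk3_bijective.1 (a₁ := (α.1, 0, 0)) (a₂ := (β.1, 0, 0)) e)
      calc P' α * P' β = ρ n⁻¹ * (P α.1 * P β.1) * ρ n := by
            simp only [hP', mul_assoc]
            rw [← mul_assoc (ρ n) (ρ n⁻¹), mul_inv' C ρ, one_mul]
        _ = _ := by rw [hPab]; split_ifs <;> simp [hP']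
    set Q : Module.End ℂ V := ∑ α, P' α with hQ
    have hQQ : Q * Q = Q := by
      rw [hQ, Finset.sum_mul]
      refine Finset.sum_congr rfl fun α _ => ?_
      simp [Finset.mul_sum, horth]
    have hQtr : LinearMap.trace ℂ V Q = ((q - 1 : ℕ) : ℂ) := by
      have e : ∀ α, LinearMap.trace ℂ V (P' α) = 1 := fun α => by
        rw [hP', LinearMap.trace_mul_comm, ← mul_assoc, mul_inv' C ρ, one_mul, htr α.1 α.2]
      rw [hQ, map_sum]
      simp only [e, Finset.sum_const, Finset.card_univ, nsmul_one]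
      congr 1
      rw [Fintype.card_subtype_compl, Fintype.card_subtype_eq, AddChar.card_eq, card_Fix']
    have hle : LinearMap.range Q ≤ LinearMap.range (P 0) :=
      range_le C (by rw [hQ, Finset.mul_sum]; exact Finset.sum_congr rfl fun α _ => hP1 α)
    have hdim : Module.finrank ℂ (LinearMap.range Q) = q - 1 := by
      have := (LinearMap.IsIdempotentElem.isProj_range Q hQQ).trace
      rw [hQtr] at this
      exact_mod_cast this.symm
    calc q - 1 = Module.finrank ℂ (LinearMap.range Q) := hdim.symm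
      _ ≤ r3 C ρ 0 0 0 := Submodule.finrank_mono hle
      _ ≤ _ := Finset.single_le_sum (f := fun β => r3 C ρ 0 β 0) (fun _ _ => Nat.zero_le _)
        (Finset.mem_univ 0)
  -- the exceptional case over the field with two elements
  · push Not at hall
    obtain ⟨α, hα⟩ := hall
    have hq2 : q = 2 := by
      by_contra h
      exact hα (hd1 (by omega) α)
    by_contra hlt
    have he0 : ∀ β, r3 C ρ 0 β 0 = 0 := fun β => by
      have := Finset.single_le_sum (f := fun β => r3 C ρ 0 β 0) (fun _ _ => Nat.zero_le _)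
        (Finset.mem_univ β)
      omega
    have h2 : ∀ x : Fix C, x = 0 ∨ ∀ (θ : AddChar (Fix C) ℂ), θ ≠ 0 → θ x = -1 := fun x => by
      refine or_iff_not_imp_left.2 fun hx θ hθ => ?_
      have hall : ∀ y : Fix C, y = 0 ∨ y = x := fun y => by
        by_contra! hy
        have hc := Finset.card_le_univ ({0, x, y} : Finset (Fix C))
        rw [Finset.card_eq_three.2 ⟨0, x, y, Ne.symm hx, Ne.symm hy.1, Ne.symm hy.2, rfl⟩,
          card_Fix'] at hc
        omega
      have hxx : x + x = 0 := (hall (x + x)).resolve_right fun h => hx (add_eq_left.1 h)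
      have hsq : θ x * θ x = 1 := by rw [← AddChar.map_add_eq_mul, hxx, AddChar.map_zero_eq_one]
      refine (mul_self_eq_one_iff.1 hsq).resolve_left fun h => hθ (DFunLike.ext _ _ fun y => ?_)
      rcases hall y with rfl | rfl
      · simp
      · simpa using h
    set W : Module.End ℂ V := ρ (ge C 1)⁻¹ * P α.1 with hW
    have ez : ∀ x : Fix C, ρ (gz C x) * P α.1 = P α.1 := fun x => by
      rw [← iota_z]; simpa [op] using hPeig α.1 (0, 0, x)
    have hgW : ∀ g, ρ (ge C 1 * g * (ge C 1)⁻¹) * P α.1 = P α.1 → ρ g * W = W := fun g h => by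
      calc ρ g * W = ρ (ge C 1)⁻¹ * (ρ (ge C 1 * g * (ge C 1)⁻¹) * P α.1) := by
            rw [hW, map_mul, map_mul]
            simp only [← mul_assoc, inv_mul C ρ, one_mul]
        _ = W := by rw [h]
    have hzW : ∀ x, op C ρ (0, 0, x) * W = W := fun x => by
      rw [op, iota_z]
      refine hgW _ ?_
      rw [← (ge_gz C 1 x).eq, mul_inv_cancel_right, ez]
    have haW : ∀ s, op C ρ (s, 0, 0) * W = W := fun s => by
      rw [op, iota_a]
      refine hgW _ ?_
      obtain ⟨u, w, y, z, hy, e⟩ := ge_conj_ga C 1 s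
      rw [e]
      have hB : ρ (gB C u) * P α.1 = P α.1 := by
        rw [← iota_B]; simpa [op] using hPeig α.1 (0, u, 0)
      have hA : ρ (ga C s) * P α.1 = α.1 s • P α.1 := by
        rw [← iota_a]; simpa [op] using hPeig α.1 (s, 0, 0)
      simp only [map_mul, mul_assoc, ez, hd, hC, hC1, hB, hA, AddChar.zero_apply, one_smul,
        mul_smul_comm, smul_smul]
      have hys : (y : K) = -(s : K) := by rw [hy]; simp
      have : lamd α y * α.1 s = 1 := by
        rcases h2 s with rfl | h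
        · obtain rfl : y = 0 := Subtype.ext (by simpa using hys)
          simp
        · rcases eq_or_ne s 0 with rfl | hs
          · obtain rfl : y = 0 := Subtype.ext (by simpa using hys)
            simp
          · have hy0 : y ≠ 0 := fun h0 => hs (Subtype.ext (by simpa [h0] using hys.symm))
            rw [h α.1 α.2, ((h2 y).resolve_left hy0) _ hα]; norm_num
      rw [this, one_smul]
    have hzero : ∀ χ, proj (op C ρ) χ * W = 0 := fun χ => by
      obtain ⟨⟨α', β', γ'⟩, rfl⟩ := mk3_bijective.2 χ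
      show proj (op C ρ) (mk3 α' β' γ') * W = 0
      have key : ∀ p, op C ρ p * W = W → mk3 α' β' γ' p ≠ 1 →
          proj (op C ρ) (mk3 α' β' γ') * W = 0 := fun p hp hne => by
        have e : proj (op C ρ) (mk3 α' β' γ') * W =
            mk3 α' β' γ' p • (proj (op C ρ) (mk3 α' β' γ') * W) := by
          rw [← smul_mul_assoc, ← proj_mul (op_add C ρ), mul_assoc, hp]
        have e0 : (mk3 α' β' γ' p - 1) • (proj (op C ρ) (mk3 α' β' γ') * W) = 0 := by
          rw [sub_smul, one_smul, ← e, sub_self]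
        exact (smul_eq_zero.1 e0).resolve_left (sub_ne_zero.2 hne)
      by_cases hα' : α' = 0
      · by_cases hγ' : γ' = 0
        · rw [hα', hγ', proj_eq_zero (he0 β'), zero_mul]
        · obtain ⟨x, hx⟩ : ∃ x, γ' x ≠ 1 := by
            by_contra! h; exact hγ' (DFunLike.ext _ _ fun x => by simp [h])
          exact key (0, 0, x) (hzW x) (by simpa [mk3_apply] using hx)
      · obtain ⟨s, hs⟩ : ∃ s, α' s ≠ 1 := by
          by_contra! h; exact hα' (DFunLike.ext _ _ fun x => by simp [h])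
        exact key (s, 0, 0) (haW s) (by simpa [mk3_apply] using hs)
    have hW0 : W = 0 := by
      have hR0 : op C ρ 0 = 1 := by rw [op, iota_zero, map_one]
      rw [← one_mul W, ← sum_proj hR0, Finset.sum_mul]
      exact Finset.sum_eq_zero fun χ _ => hzero χ
    have hP0 : P α.1 = 0 := by
      rw [← one_mul (P α.1), ← mul_inv' C ρ (ge C 1), mul_assoc, ← hW, hW0, mul_zero]
    have := htr α.1 α.2
    rw [hP0, map_zero] at this
    exact zero_ne_one this

/-- A faithful representation has degree at least `q⁵ - q³ + q - 1`. -/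
theorem le_dim (hinj : Function.Injective ρ) :
    q ^ 5 - q ^ 3 + q - 1 ≤ Module.finrank ℂ V := by
  classical
  have hq := C.q_gt
  obtain ⟨r, hr1, hr⟩ := exists_common C ρ hinj
  have hR0 : op C ρ 0 = 1 := by rw [op, iota_zero, map_one]
  have htot := sum_mult (op_add C ρ) hR0
  rw [← Function.Bijective.sum_comp mk3_bijective (fun χ => mult (op C ρ) χ)] at htot
  have hsum : ∑ p : AddChar (Fix C) ℂ × AddChar K ℂ × AddChar (Fix C) ℂ,
      mult (op C ρ) (mk3 p.1 p.2.1 p.2.2) = (∑ β, r3 C ρ 0 β 0) + (q ^ 5 - q ^ 3) * r := by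
    let S : Finset (AddChar (Fix C) ℂ × AddChar K ℂ × AddChar (Fix C) ℂ) :=
      {(0 : AddChar (Fix C) ℂ)} ×ˢ ((Finset.univ : Finset (AddChar K ℂ)) ×ˢ
        {(0 : AddChar (Fix C) ℂ)})
    rw [← Finset.sum_add_sum_compl S]
    congr 1
    · simp [S, r3, Finset.sum_product]
    · have hS : ∀ p ∈ Sᶜ, mult (op C ρ) (mk3 p.1 p.2.1 p.2.2) = r := fun p hp =>
        hr p.1 p.2.1 p.2.2 (by
          simp [S] at hp
          by_contra! h
          exact hp p.2.1 (Prod.ext h.1.symm (Prod.ext rfl h.2.symm)))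
      rw [Finset.sum_congr rfl hS, Finset.sum_const, smul_eq_mul]
      congr 1
      rw [Finset.card_compl]
      simp only [S, Finset.card_product, Finset.card_singleton, Finset.card_univ,
        Fintype.card_prod, AddChar.card_eq, card_Fix', C.card, one_mul, mul_one]
      ring_nf
  rw [hsum] at htot
  have h53 : q ^ 3 * 4 ≤ q ^ 5 := by
    rw [show q ^ 5 = q ^ 3 * (q * q) by ring]
    exact Nat.mul_le_mul_left _ (Nat.mul_le_mul (show 2 ≤ q by omega) (show 2 ≤ q by omega))
  have hq3 : q ≤ q ^ 3 := Nat.le_self_pow (by norm_num) q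
  rcases Nat.lt_or_ge r 2 with h | h
  · obtain rfl : r = 1 := by omega
    have := low_bound C ρ hr
    omega
  · have : (q ^ 5 - q ^ 3) * 2 ≤ (q ^ 5 - q ^ 3) * r := Nat.mul_le_mul_left _ h
    omega

/-- An irreducible representation of degree at least two reaches the bound. -/
theorem le_dim_irr {k : ℕ} (ρ : Representation ℂ (↥(twistedD4 K q)) (Fin k → ℂ))
    (hirr : ρ.IsIrreducible) (hk : 2 ≤ k) : q ^ 5 - q ^ 3 + q ≤ k := by
  have hinj : Function.Injective ρ := by
    haveI := C.simple_twisted.1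
    rw [← MonoidHom.ker_eq_bot_iff]
    refine (ρ.normal_ker.eq_bot_or_eq_top).resolve_right fun htop => ?_
    have h : ∀ g, ρ g = 1 := fun g => MonoidHom.mem_ker.1 (htop ▸ Subgroup.mem_top g)
    let W : Subrepresentation ρ :=
      { toSubmodule := ℂ ∙ (Pi.single (⟨0, by omega⟩ : Fin k) 1 : Fin k → ℂ)
        apply_mem_toSubmodule := fun g v hv => by rw [h g]; exact hv }
    rcases hirr.eq_bot_or_eq_top W with hW | hW
    · have : ℂ ∙ (Pi.single (⟨0, by omega⟩ : Fin k) 1 : Fin k → ℂ) = ⊥ :=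
        congrArg Subrepresentation.toSubmodule hW
      simp at this
    · have := congrArg (fun S : Subrepresentation ρ => Module.finrank ℂ S.toSubmodule) hW
      have e1 : Module.finrank ℂ W.toSubmodule = 1 := finrank_span_singleton (by simp)
      have e2 : Module.finrank ℂ (⊤ : Subrepresentation ρ).toSubmodule = k := by
        rw [show (⊤ : Subrepresentation ρ).toSubmodule = ⊤ from rfl, finrank_top,
          Module.finrank_fin_fun]
      omega
  have h := le_dim C ρ hinj
  rw [Module.finrank_fin_fun] at h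
  by_contra hlt
  haveI := hirr
  letI := Fintype.ofFinite ↥(twistedD4 K q)
  have hdvd := CfsgLib.Char.degree_dvd_card' ρ
  rw [Module.finrank_fin_fun, C.card_twisted, show k = q ^ 5 - q ^ 3 + q - 1 by omega] at hdvd
  exact not_dvd_order C.q_gt hdvd

end CfsgLib.Known.D4Degree
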